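import Groth.Agent.TransTop.Basic

/-!
# Images of profinite spaces of rational points lie in an affine open
-/

universe u
open CategoryTheory CategoryTheory.Limits MonoidalCategory CartesianMonoidalCategory MonObj
open AlgebraicGeometry

namespace Groth.Agent.TransTop

variable {k : Type u} [Field k] {G : Over (Spec (CommRingCat.of k))} [GrpObj G]

lemma isAffineOpen_inter_clopen {X : Scheme.{u}} {V : X.Opens} (hV : IsAffineOpen V) {S : Set X}
    (hS : IsClopen S) : IsAffineOpen (V ⊓ ⟨S, hS.isOpen⟩) := by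
  have : IsAffine V.toScheme := hV
  let W : V.toScheme.Opens := V.ι ⁻¹ᵁ ⟨S, hS.isOpen⟩
  have : IsClosedImmersion W.ι := IsClosedImmersion.of_isPreimmersion _ (by
    rw [W.range_ι]; exact hS.isClosed.preimage V.ι.continuous)
  have hW : IsAffineOpen W := isAffine_of_isAffineHom W.ι
  have h := hW.image_of_isOpenImmersion V.ι
  have he : V.ι ''ᵁ W = V ⊓ ⟨S, hS.isOpen⟩ := by
    rw [Scheme.Hom.image_preimage_eq_opensRange_inf, Scheme.Opens.opensRange_ι]
  rwa [he] at h

variable [JacobsonSpace G.left] (hG : RatPts G)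
include hG

/-- an affine open meeting the components of all points of a compact set -/
lemma exists_affine_meeting {K : Set G.left} (hK : IsCompact K) :
    ∃ U : G.left.Opens, IsAffineOpen U ∧
      ∀ y ∈ K, ∃ z ∈ U, irreducibleComponent z = irreducibleComponent y := by
  classical
  choose V hV hxV _ using fun x : G.left =>
    exists_isAffineOpen_mem_and_subset (show x ∈ (⊤ : G.left.Opens) from trivial)
  let S : G.left → Set G.left := fun x => closure (V x : Set G.left)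
  have hS : ∀ x, IsClopen (S x) := fun x => isClopen_closure hG (V x) (hV x).isCompact
  obtain ⟨t, ht⟩ := hK.elim_finite_subcover S (fun x => (hS x).isOpen)
    (fun y _ => Set.mem_iUnion.2 ⟨y, subset_closure (hxV y)⟩)
  obtain ⟨n, e⟩ : ∃ n, Nonempty (Fin n ≃ t) := ⟨t.card, ⟨t.equivFin.symm⟩⟩
  obtain ⟨e⟩ := e
  let T : Fin n → Set G.left := fun i => S (e i) \ ⋃ j ∈ Finset.Iio i, S (e j)
  have hT : ∀ i, IsClopen (T i) := fun i =>
    (hS _).diff (isClopen_biUnion_finset fun j _ => hS _)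
  refine ⟨⨆ i, (V (e i) ⊓ ⟨T i, (hT i).isOpen⟩), IsAffineOpen.iSup_of_disjoint
    (fun i => isAffineOpen_inter_clopen (hV _) (hT i)) ?_, fun y hy => ?_⟩
  · suffices h : ∀ i j, i < j → Disjoint (V (e i) ⊓ (⟨T i, (hT i).isOpen⟩ : G.left.Opens))
        (V (e j) ⊓ ⟨T j, (hT j).isOpen⟩) from
      fun i j hij => (lt_or_gt_of_ne hij).elim (h i j) fun h' => (h j i h').symm
    intro i j hij
    rw [disjoint_iff]
    refine TopologicalSpace.Opens.ext (Set.eq_empty_iff_forall_notMem.2 ?_)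
    rintro g ⟨⟨-, hgi⟩, -, hgj⟩
    exact hgj.2 (Set.mem_biUnion (Finset.mem_Iio.2 hij) hgi.1)
  · obtain ⟨x, hx, hyx⟩ := Set.mem_iUnion₂.1 (ht hy)
    obtain ⟨i, hi, hmin⟩ := Finset.exists_min_image
      (Finset.univ.filter fun i => y ∈ S (e i)) id
      ⟨e.symm ⟨x, hx⟩, by simpa using hyx⟩
    simp only [Finset.mem_filter, Finset.mem_univ, true_and, id] at hi hmin
    have hyT : y ∈ T i := ⟨hi, fun h => by
      obtain ⟨j, hj, hyj⟩ := Set.mem_iUnion₂.1 h
      exact (Finset.mem_Iio.1 hj).not_ge (hmin j hyj)⟩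
    obtain ⟨z, hz, hzy⟩ := (mem_closure_iff_component hG _ (hV _).isCompact y).1 hi
    refine ⟨z, TopologicalSpace.Opens.mem_iSup.2 ⟨i, hz, ?_⟩, hzy⟩
    exact component_eq_of_mem_isClopen hG (hT i) hyT (hzy ▸ mem_irreducibleComponent)

/-- if every point of `T` is a rational point, some translate of the image of `T` lies in an affine -/
lemma exists_affineOpen_range_subset (T : Over (Spec (CommRingCat.of k)))
    [CompactSpace T.left] [IsIntegralHom T.hom] (f : T ⟶ G)
    (hT : ∀ t : T.left, ∃ q : 𝟙_ (Over (Spec (CommRingCat.of k))) ⟶ T,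
      q.left (IsLocalRing.closedPoint k) = t) :
    ∃ U : G.left.Opens, IsAffineOpen U ∧ Set.range f.left ⊆ (U : Set G.left) := by
  obtain ⟨U, hU, hUK⟩ := exists_affine_meeting hG (isCompact_range f.left.continuous)
  let C₀ : Set G.left :=
    irreducibleComponent (pnt (1 : 𝟙_ (Over (Spec (CommRingCat.of k))) ⟶ G))
  have hC₀ : IsIrreducible C₀ := isIrreducible_irreducibleComponent
  let η₀ := hC₀.genericPoint
  have hη : closure ({η₀} : Set G.left) = C₀ :=
    hC₀.closure_genericPoint isClosed_irreducibleComponent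
  -- translates of the generic point of the neutral component lie in `U`
  have key : ∀ q : 𝟙_ (Over (Spec (CommRingCat.of k))) ⟶ T, rmul (q ≫ f) η₀ ∈ U := by
    intro q
    obtain ⟨z, hz, hzy⟩ := hUK (pnt (q ≫ f)) ⟨q.left (IsLocalRing.closedPoint k), rfl⟩
    have himg : rmul (q ≫ f) '' C₀ = irreducibleComponent (pnt (q ≫ f)) := by
      rw [component_map hG, rmul_pnt, _root_.one_mul]
    obtain ⟨w, hw, hwz⟩ : z ∈ rmul (q ≫ f) '' C₀ := by
      rw [himg, ← hzy]; exact mem_irreducibleComponent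
    have hsp : η₀ ⤳ w := specializes_iff_mem_closure.2 (hη ▸ hw)
    exact (hsp.map (rmul (q ≫ f)).continuous).mem_open U.2 (hwz ▸ hz)
  let m : G ⊗ T ⟶ G := fst G T * (snd G T ≫ f)
  let π : (G ⊗ T).left ⟶ G.left := (fst G T).left
  have hπ : IsIntegralHom π := MorphismProperty.pullback_fst (P := @IsIntegralHom) G.hom T.hom ‹_›
  have hZ : IsClosed (π '' (m.left ⁻¹ᵁ U : Set (G ⊗ T).left)ᶜ) :=
    π.isClosedMap _ (m.left ⁻¹ᵁ U).2.isClosed_compl
  have hη₀ : η₀ ∉ π '' (m.left ⁻¹ᵁ U : Set (G ⊗ T).left)ᶜ := by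
    rintro ⟨z, hz, hπz⟩
    obtain ⟨q, hq⟩ := hT ((snd G T).left z)
    have hz' : z ∈ Set.range (G ◁ q).left := by
      rw [show (G ◁ q).left = pullback.map G.hom (𝟙 _) G.hom T.hom (𝟙 _) q.left (𝟙 _)
        (by simp) (by rw [Category.comp_id, Over.w q]; rfl) from Over.whiskerLeft_left q]
      erw [Scheme.Pullback.range_map]
      exact ⟨⟨(fst G T).left z, rfl⟩, ⟨_, hq⟩⟩
    obtain ⟨w, rfl⟩ := hz'
    refine hz ?_
    have hm : G ◁ q ≫ m = fst G (𝟙_ _) ≫ (GrpObj.mulRight (q ≫ f)).hom := by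
      simp only [m, GrpObj.mulRight_hom, ← Hom.mul_def, MonObj.comp_mul, whiskerLeft_fst,
        whiskerLeft_snd_assoc, Category.comp_id, ← Category.assoc]
      rw [toUnit_unique (fst G (𝟙_ _) ≫ toUnit G) (snd G (𝟙_ _)), whiskerLeft_snd]
    have hf' : (fst G (𝟙_ _)).left w = η₀ := by
      rw [← hπz, ← whiskerLeft_fst G q]; rfl
    change m.left ((G ◁ q).left w) ∈ U
    rw [← Scheme.Hom.comp_apply, ← Over.comp_left, hm, Over.comp_left, Scheme.Hom.comp_apply, hf']
    exact key q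
  obtain ⟨g, hg⟩ := exists_pnt_mem hG ⟨η₀, hη₀⟩ hZ.isOpen_compl.isLocallyClosed
  refine ⟨(lmulIso g).hom.left ⁻¹ᵁ U, hU.preimage_of_isIso _, ?_⟩
  rintro _ ⟨t, rfl⟩
  obtain ⟨q, rfl⟩ := hT t
  let z : 𝟙_ (Over (Spec (CommRingCat.of k))) ⟶ G ⊗ T := lift g q
  have h1 : z.left (IsLocalRing.closedPoint k) ∈ m.left ⁻¹ᵁ U := by
    by_contra h
    refine hg ⟨_, h, ?_⟩
    rw [← Scheme.Hom.comp_apply, ← Over.comp_left, lift_fst]
    rfl
  change lmul g (pnt (q ≫ f)) ∈ U
  rw [lmul_pnt]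
  have : z ≫ m = g * (q ≫ f) := by simp [z, m, MonObj.comp_mul]
  rw [← this]
  exact h1

end Groth.Agent.TransTop

namespace Groth.Agent.TransTop

variable {k : Type u} [Field k] {G : Over (Spec (CommRingCat.of k))} [GrpObj G]
  [JacobsonSpace G.left]

/-- finitely many rational points lie in an affine open -/
lemma exists_affineOpen_finite (hG : RatPts G) {n : ℕ}
    (x : Fin n → (𝟙_ (Over (Spec (CommRingCat.of k))) ⟶ G)) :
    ∃ U : G.left.Opens, IsAffineOpen U ∧ ∀ i, pnt (x i) ∈ U := by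
  obtain ⟨U, hU, hUK⟩ := exists_affine_meeting hG (Set.finite_range fun i => pnt (x i)).isCompact
  let C₀ : Set G.left :=
    irreducibleComponent (pnt (1 : 𝟙_ (Over (Spec (CommRingCat.of k))) ⟶ G))
  have hC₀ : IsIrreducible C₀ := isIrreducible_irreducibleComponent
  have hmem : ∀ i, hC₀.genericPoint ∈ rmul (x i) ⁻¹' (U : Set G.left) := by
    intro i
    obtain ⟨z, hz, hzy⟩ := hUK _ ⟨i, rfl⟩
    have himg : rmul (x i) '' C₀ = irreducibleComponent (pnt (x i)) := by
      rw [component_map hG, rmul_pnt, _root_.one_mul]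
    obtain ⟨w, hw, hwz⟩ : z ∈ rmul (x i) '' C₀ := by
      rw [himg, ← hzy]; exact mem_irreducibleComponent
    have hsp : hC₀.genericPoint ⤳ w :=
      hC₀.isGenericPoint_genericPoint_closure.specializes (subset_closure hw)
    exact (hsp.map (rmul (x i)).continuous).mem_open U.2 (hwz ▸ hz)
  obtain ⟨g, hg⟩ := exists_pnt_mem hG (Z := ⋂ i, rmul (x i) ⁻¹' (U : Set G.left))
    ⟨hC₀.genericPoint, Set.mem_iInter.2 hmem⟩
    (isOpen_iInter_of_finite fun i => U.2.preimage (rmul (x i)).continuous).isLocallyClosed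
  refine ⟨(lmulIso g).hom.left ⁻¹ᵁ U, hU.preimage_of_isIso _, fun i => ?_⟩
  change lmul g (pnt (x i)) ∈ U
  rw [lmul_pnt, ← rmul_pnt]
  exact Set.mem_iInter.1 hg i

end Groth.Agent.TransTop
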