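import Mathlib
import Groth.Agent.DomLib.Basic
import Groth.Agent.ClosedRep.Over

/-!
# Topology of a group scheme whose closed points are rational, via translations
-/

universe u
open CategoryTheory CategoryTheory.Limits MonoidalCategory CartesianMonoidalCategory MonObj
open AlgebraicGeometry

namespace Groth.Agent.TransTop

variable {k : Type u} [Field k] {G : Over (Spec (CommRingCat.of k))} [GrpObj G]

/-- the point underlying a rational point -/
noncomputable def pnt (x : 𝟙_ (Over (Spec (CommRingCat.of k))) ⟶ G) : G.left :=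
  x.left (IsLocalRing.closedPoint k)

/-- right translation as a homeomorphism -/
noncomputable def rmul (c : 𝟙_ (Over (Spec (CommRingCat.of k))) ⟶ G) :
    G.left ≃ₜ G.left :=
  TopCat.homeoOfIso (Scheme.forgetToTop.mapIso ((Over.forget _).mapIso (GrpObj.mulRight c)))

lemma rmul_apply (c : 𝟙_ (Over (Spec (CommRingCat.of k))) ⟶ G) (y : G.left) :
    rmul c y = (GrpObj.mulRight c).hom.left y := rfl

lemma rmul_pnt (c x : 𝟙_ (Over (Spec (CommRingCat.of k))) ⟶ G) :
    rmul c (pnt x) = pnt (x * c) := by
  have h : x ≫ (GrpObj.mulRight c).hom = x * c := by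
    simp only [GrpObj.mulRight_hom, ← Hom.mul_def, MonObj.comp_mul, Category.comp_id,
      ← Category.assoc]
    rw [toUnit_unique (x ≫ toUnit G) (𝟙 _), Category.id_comp]
  rw [rmul_apply, pnt, pnt, ← h]
  rfl

/-- left translation, as an endomorphism -/
noncomputable def lmulHom (c : 𝟙_ (Over (Spec (CommRingCat.of k))) ⟶ G) : G ⟶ G :=
  (toUnit G ≫ c) * 𝟙 G

lemma lmulHom_comp (c d : 𝟙_ (Over (Spec (CommRingCat.of k))) ⟶ G) :
    lmulHom c ≫ lmulHom d = lmulHom (d * c) := by
  simp only [lmulHom, MonObj.comp_mul, Category.comp_id, ← Category.assoc]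
  rw [toUnit_unique (((toUnit G ≫ c) * 𝟙 G) ≫ toUnit G) (toUnit G), _root_.mul_assoc]

lemma lmulHom_one : lmulHom (1 : 𝟙_ (Over (Spec (CommRingCat.of k))) ⟶ G) = 𝟙 G := by
  simp [lmulHom]

/-- left translation as an automorphism -/
noncomputable def lmulIso (c : 𝟙_ (Over (Spec (CommRingCat.of k))) ⟶ G) : G ≅ G where
  hom := lmulHom c
  inv := lmulHom c⁻¹
  hom_inv_id := by rw [lmulHom_comp, inv_mul_cancel, lmulHom_one]
  inv_hom_id := by rw [lmulHom_comp, mul_inv_cancel, lmulHom_one]

/-- left translation as a homeomorphism -/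
noncomputable def lmul (c : 𝟙_ (Over (Spec (CommRingCat.of k))) ⟶ G) :
    G.left ≃ₜ G.left :=
  TopCat.homeoOfIso (Scheme.forgetToTop.mapIso ((Over.forget _).mapIso (lmulIso c)))

lemma lmul_apply (c : 𝟙_ (Over (Spec (CommRingCat.of k))) ⟶ G) (y : G.left) :
    lmul c y = (lmulHom c).left y := rfl

lemma lmul_pnt (c x : 𝟙_ (Over (Spec (CommRingCat.of k))) ⟶ G) :
    lmul c (pnt x) = pnt (c * x) := by
  have h : x ≫ lmulHom c = c * x := by
    simp only [lmulHom, MonObj.comp_mul, Category.comp_id, ← Category.assoc]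
    rw [toUnit_unique (x ≫ toUnit G) (𝟙 _), Category.id_comp]
  rw [lmul_apply, pnt, pnt, ← h]
  rfl

/-- all closed points are rational -/
def RatPts (G : Over (Spec (CommRingCat.of k))) : Prop :=
  ∀ g : G.left, IsClosed ({g} : Set G.left) →
    ∃ x : 𝟙_ (Over (Spec (CommRingCat.of k))) ⟶ G, x.left (IsLocalRing.closedPoint k) = g

section
variable [JacobsonSpace G.left] (hG : RatPts G)
include hG

lemma exists_pnt_mem {Z : Set G.left} (h : Z.Nonempty) (hZ : IsLocallyClosed Z) :
    ∃ x, pnt (G := G) x ∈ Z := by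
  obtain ⟨g, hg, hgc⟩ := nonempty_inter_closedPoints h hZ
  obtain ⟨x, rfl⟩ := hG g hgc
  exact ⟨x, hg⟩

lemma subset_closure_of_pnt {Z P : Set G.left} (hZ : IsClosed Z)
    (h : ∀ x, pnt (G := G) x ∈ Z → pnt x ∈ P) : Z ⊆ closure P := by
  conv_lhs => rw [← JacobsonSpace.closure_inter_closedPoints hZ]
  refine closure_mono fun g hg => ?_
  obtain ⟨x, rfl⟩ := hG g hg.2
  exact h x hg.1

/-- the unit lies in a unique irreducible component -/
lemma component_unique_one {C D : Set G.left} (hC : C ∈ irreducibleComponents G.left)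
    (hD : D ∈ irreducibleComponents G.left)
    (hC1 : pnt (1 : 𝟙_ (Over (Spec (CommRingCat.of k))) ⟶ G) ∈ C)
    (hD1 : pnt (1 : 𝟙_ (Over (Spec (CommRingCat.of k))) ⟶ G) ∈ D) : C = D := by
  have hCc := isClosed_of_mem_irreducibleComponents C hC
  have hDc := isClosed_of_mem_irreducibleComponents D hD
  let P : Set G.left := {g | ∃ a b, pnt (G := G) a ∈ C ∧ pnt b ∈ D ∧ pnt (a * b) = g}
  have hP : IsIrreducible P := by
    refine ⟨⟨_, 1, 1, hC1, hD1, rfl⟩, fun U V hU hV hu hv => ?_⟩
    obtain ⟨_, ⟨a₁, b₁, ha₁, hb₁, rfl⟩, h₁⟩ := hu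
    obtain ⟨_, ⟨a₂, b₂, ha₂, hb₂, rfl⟩, h₂⟩ := hv
    obtain ⟨a, haC, haU, haV⟩ := exists_pnt_mem hG
      (hC.1.2 (rmul b₁ ⁻¹' U) (rmul b₂ ⁻¹' V) (hU.preimage (rmul b₁).continuous)
        (hV.preimage (rmul b₂).continuous)
        ⟨pnt a₁, ha₁, by simpa [rmul_pnt] using h₁⟩ ⟨pnt a₂, ha₂, by simpa [rmul_pnt] using h₂⟩)
      (hCc.isLocallyClosed.inter
        (((hU.preimage (rmul b₁).continuous).inter (hV.preimage (rmul b₂).continuous)).isLocallyClosed))
    obtain ⟨b, hbD, hbU, hbV⟩ := exists_pnt_mem hG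
      (hD.1.2 (lmul a ⁻¹' U) (lmul a ⁻¹' V) (hU.preimage (lmul a).continuous)
        (hV.preimage (lmul a).continuous)
        ⟨pnt b₁, hb₁, by simpa [lmul_pnt, rmul_pnt] using haU⟩
        ⟨pnt b₂, hb₂, by simpa [lmul_pnt, rmul_pnt] using haV⟩)
      (hDc.isLocallyClosed.inter
        (((hU.preimage (lmul a).continuous).inter (hV.preimage (lmul a).continuous)).isLocallyClosed))
    exact ⟨pnt (a * b), ⟨a, b, haC, hbD, rfl⟩,
      by simpa [lmul_pnt] using hbU, by simpa [lmul_pnt] using hbV⟩
  have hPC : C ⊆ closure P :=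
    subset_closure_of_pnt hG hCc fun x hx => ⟨x, 1, hx, hD1, by rw [_root_.mul_one]⟩
  have hPD : D ⊆ closure P :=
    subset_closure_of_pnt hG hDc fun x hx => ⟨1, x, hC1, hx, by rw [_root_.one_mul]⟩
  exact (hPC.antisymm (hC.2 hP.closure hPC)).trans (hPD.antisymm (hD.2 hP.closure hPD)).symm

/-- every point lies in a unique irreducible component -/
lemma eq_irreducibleComponent {C : Set G.left} (hC : C ∈ irreducibleComponents G.left) {y : G.left}
    (hy : y ∈ C) : C = irreducibleComponent y := by
  have hC' := irreducibleComponent_mem_irreducibleComponents y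
  obtain ⟨x, hx, hx'⟩ := exists_pnt_mem hG
    (Z := C ∩ irreducibleComponent y) ⟨y, hy, mem_irreducibleComponent⟩
    ((isClosed_of_mem_irreducibleComponents C hC).inter isClosed_irreducibleComponent).isLocallyClosed
  let e := rmul x⁻¹
  have himg : ∀ D ∈ irreducibleComponents G.left, e '' D ∈ irreducibleComponents G.left := by
    intro D hD
    refine ⟨hD.1.image e e.continuous.continuousOn, fun T hT hDT => ?_⟩
    have : e.symm '' T ⊆ D := hD.2 (hT.image e.symm e.symm.continuous.continuousOn)
      (fun z hz => ⟨e z, hDT ⟨z, hz, rfl⟩, e.symm_apply_apply z⟩)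
    exact fun z hz => ⟨e.symm z, this ⟨z, hz, rfl⟩, e.apply_symm_apply z⟩
  have he : e (pnt x) = pnt 1 := by rw [rmul_pnt, mul_inv_cancel]
  have h1 : pnt 1 ∈ e '' C := he ▸ Set.mem_image_of_mem e hx
  have h1' : pnt 1 ∈ e '' irreducibleComponent y := he ▸ Set.mem_image_of_mem e hx'
  have := component_unique_one hG (himg C hC) (himg _ hC') h1 h1'
  exact Set.image_injective.2 e.injective this

lemma component_eq_of_mem {y z : G.left} (h : z ∈ irreducibleComponent y) :
    irreducibleComponent y = irreducibleComponent z :=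
  eq_irreducibleComponent hG (irreducibleComponent_mem_irreducibleComponents y) h

lemma component_eq_of_specializes {y z : G.left} (h : y ⤳ z) :
    irreducibleComponent y = irreducibleComponent z :=
  component_eq_of_mem hG (h.mem_closed isClosed_irreducibleComponent mem_irreducibleComponent)

lemma component_eq_of_mem_isClopen {S : Set G.left} (hS : IsClopen S) {y : G.left} (hy : y ∈ S) :
    irreducibleComponent y ⊆ S :=
  (isIrreducible_irreducibleComponent.2.isPreconnected).subset_isClopen hS
    ⟨y, mem_irreducibleComponent, hy⟩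

lemma component_map (e : G.left ≃ₜ G.left) (y : G.left) :
    e '' irreducibleComponent y = irreducibleComponent (e y) := by
  refine eq_irreducibleComponent hG ⟨?_, fun T hT hDT => ?_⟩ ⟨y, mem_irreducibleComponent, rfl⟩
  · exact isIrreducible_irreducibleComponent.image e e.continuous.continuousOn
  · have : e.symm '' T ⊆ irreducibleComponent y :=
      (irreducibleComponent_mem_irreducibleComponents y).2 (hT.image e.symm e.symm.continuous.continuousOn)
        (fun z hz => ⟨e z, hDT ⟨z, hz, rfl⟩, e.symm_apply_apply z⟩)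
    exact fun z hz => ⟨e.symm z, this ⟨z, hz, rfl⟩, e.apply_symm_apply z⟩

lemma component_map_eq (e : G.left ≃ₜ G.left) {y z : G.left}
    (h : irreducibleComponent y = irreducibleComponent z) :
    irreducibleComponent (e y) = irreducibleComponent (e z) := by
  rw [← component_map hG, ← component_map hG, h]

lemma component_pnt_mul {a b b' : 𝟙_ (Over (Spec (CommRingCat.of k))) ⟶ G}
    (h : irreducibleComponent (pnt b) = irreducibleComponent (pnt b')) :
    irreducibleComponent (pnt (a * b)) = irreducibleComponent (pnt (a * b')) := by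
  rw [← lmul_pnt, ← lmul_pnt]
  exact component_map_eq hG _ h

lemma component_rmul {h : 𝟙_ (Over (Spec (CommRingCat.of k))) ⟶ G}
    (hh : irreducibleComponent (pnt h) = irreducibleComponent
      (pnt (1 : 𝟙_ (Over (Spec (CommRingCat.of k))) ⟶ G))) (y : G.left) :
    irreducibleComponent (rmul h y) = irreducibleComponent y := by
  obtain ⟨x, hx⟩ := exists_pnt_mem hG (Z := closure ({y} : Set G.left))
    ⟨y, subset_closure rfl⟩ isClosed_closure.isLocallyClosed
  have hs := component_eq_of_specializes hG (specializes_iff_mem_closure.2 hx)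
  rw [component_map_eq hG (rmul h) hs, rmul_pnt, component_pnt_mul hG hh, _root_.mul_one, hs]

/-- membership in the closure of a quasi-compact open -/
lemma mem_closure_iff_component (O : G.left.Opens) (hO : IsCompact (O : Set G.left)) (y : G.left) :
    y ∈ closure (O : Set G.left) ↔
      ∃ x ∈ O, irreducibleComponent x = irreducibleComponent y := by
  constructor
  · intro hy
    have := ClosedRep.isSeparated_of_field k G
    have : CompactSpace O := isCompact_iff_compactSpace.mp hO
    have : QuasiCompact (O.ι ≫ G.hom) := (quasiCompact_iff_compactSpace _).2 ‹_›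
    have : QuasiCompact O.ι := QuasiCompact.of_comp O.ι G.hom
    obtain ⟨x, hx⟩ := DomLib.exists_specializes O.ι (y := y) (by rwa [O.range_ι])
    exact ⟨O.ι x, x.2, component_eq_of_specializes hG hx⟩
  · rintro ⟨x, hx, he⟩
    have h : irreducibleComponent x ⊆ closure ((irreducibleComponent x) ∩ O) :=
      subset_closure_inter_of_isPreirreducible_of_isOpen isIrreducible_irreducibleComponent.2 O.2
        ⟨x, mem_irreducibleComponent, hx⟩
    exact closure_mono Set.inter_subset_right (h (he ▸ mem_irreducibleComponent))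

/-- the closure of a quasi-compact open is clopen -/
lemma isClopen_closure (O : G.left.Opens) (hO : IsCompact (O : Set G.left)) :
    IsClopen (closure (O : Set G.left)) := by
  refine ⟨isClosed_closure, ?_⟩
  let W : Set G.left := ⋃ h ∈ {h : 𝟙_ (Over (Spec (CommRingCat.of k))) ⟶ G |
    irreducibleComponent (pnt h) = irreducibleComponent
      (pnt (1 : 𝟙_ (Over (Spec (CommRingCat.of k))) ⟶ G))}, rmul h '' (O : Set G.left)
  have hW : IsOpen W := isOpen_biUnion fun h _ => (rmul h).isOpenMap _ O.2
  suffices closure (O : Set G.left) = W by rwa [this]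
  refine subset_antisymm ?_ ?_
  · by_contra hne
    obtain ⟨g, hg⟩ := Set.not_subset.1 hne
    obtain ⟨c, hc, hcW⟩ := exists_pnt_mem hG
      (Z := closure (O : Set G.left) ∩ Wᶜ) ⟨g, hg.1, hg.2⟩
      (isClosed_closure.isLocallyClosed.inter hW.isClosed_compl.isLocallyClosed)
    obtain ⟨x, hxO, hx⟩ := (mem_closure_iff_component hG O hO _).1 hc
    obtain ⟨c', hc'O, hc'⟩ := exists_pnt_mem hG
      (Z := (O : Set G.left) ∩ irreducibleComponent x) ⟨x, hxO, mem_irreducibleComponent⟩
      (O.2.isLocallyClosed.inter isClosed_irreducibleComponent.isLocallyClosed)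
    have hcc : irreducibleComponent (pnt c) = irreducibleComponent (pnt c') :=
      hx.symm.trans (component_eq_of_mem hG hc')
    refine hcW (Set.mem_iUnion₂.2 ⟨c'⁻¹ * c, ?_, pnt c', hc'O, ?_⟩)
    · change irreducibleComponent (pnt (c'⁻¹ * c)) = _
      rw [component_pnt_mul hG hcc, inv_mul_cancel]
    · rw [rmul_pnt, mul_inv_cancel_left]
  · intro g hg
    obtain ⟨h, hh, y, hy, rfl⟩ := Set.mem_iUnion₂.1 hg
    exact (mem_closure_iff_component hG O hO _).2 ⟨y, hy, (component_rmul hG hh y).symm⟩

end

end Groth.Agent.TransTop
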